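import Mathlib

/-!
# Representations in which a central subgroup acts by a given linear character
-/

set_option autoImplicit false

namespace Cfsg.Agent.H491.ScalarRep

open Matrix

variable {Γ : Type*} [Group Γ] (K : Subgroup Γ) (χ : K →* ℂˣ)

/-- Functions on `Γ` that transform by `χ` under left multiplication by `K`. -/
def V : Submodule ℂ (Γ → ℂ) where
  carrier := {f | ∀ (k : K) (g : Γ), f (k * g) = (χ k : ℂ) * f g}
  add_mem' := by
    intro f f' hf hf' k g
    show f (k * g) + f' (k * g) = _ * (f g + f' g)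
    rw [hf k g, hf' k g, mul_add]
  zero_mem' := by
    intro k g
    show (0 : ℂ) = _ * 0
    rw [mul_zero]
  smul_mem' := by
    intro c f hf k g
    show c * f (k * g) = _ * (c * f g)
    rw [hf k g]
    ring

/-- Right translation on `V`. -/
def act : Γ →* Module.End ℂ (V K χ) where
  toFun h :=
    { toFun := fun f => ⟨fun g => f.1 (g * h), fun k g => by
        show f.1 (k * g * h) = (χ k : ℂ) * f.1 (g * h)
        rw [mul_assoc]
        exact f.2 k (g * h)⟩
      map_add' := fun f f' => rfl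
      map_smul' := fun c f => rfl }
  map_one' := by
    ext f g
    show f.1 (g * 1) = f.1 g
    rw [mul_one]
  map_mul' := by
    intro a b
    ext f g
    show f.1 (g * (a * b)) = f.1 (g * a * b)
    rw [mul_assoc]

theorem act_of_mem (hK : K ≤ Subgroup.center Γ) (k : K) :
    act K χ k = (χ k : ℂ) • (1 : Module.End ℂ (V K χ)) := by
  ext f g
  show f.1 (g * k) = (χ k : ℂ) * f.1 g
  rw [Subgroup.mem_center_iff.1 (hK k.2) g]
  exact f.2 k g

theorem nontrivial_V : Nontrivial (V K χ) := by
  classical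
  refine ⟨⟨⟨fun g => if h : g ∈ K then (χ ⟨g, h⟩ : ℂ) else 0, ?_⟩, 0, ?_⟩⟩
  · intro k g
    by_cases hg : g ∈ K
    · have hkg : (k : Γ) * g ∈ K := K.mul_mem k.2 hg
      show (if h : (k : Γ) * g ∈ K then (χ ⟨k * g, h⟩ : ℂ) else 0) =
        _ * (if h : g ∈ K then (χ ⟨g, h⟩ : ℂ) else 0)
      rw [dif_pos hg, dif_pos hkg, ← Units.val_mul, ← map_mul]
      rfl
    · have hkg : (k : Γ) * g ∉ K := fun h => hg (by
        have := K.mul_mem (K.inv_mem k.2) h
        rwa [inv_mul_cancel_left] at this)
      show (if h : (k : Γ) * g ∈ K then (χ ⟨k * g, h⟩ : ℂ) else 0) =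
        _ * (if h : g ∈ K then (χ ⟨g, h⟩ : ℂ) else 0)
      rw [dif_neg hg, dif_neg hkg, mul_zero]
  · intro h
    have h1 := congrFun (congrArg Subtype.val h) 1
    have h2 : (if h : (1 : Γ) ∈ K then (χ ⟨1, h⟩ : ℂ) else 0) = 0 := h1
    rw [dif_pos K.one_mem] at h2
    exact (χ ⟨1, K.one_mem⟩).ne_zero h2

/-- A finite group has a complex matrix representation of positive degree in which a given central
subgroup acts by scalars through a given linear character. -/
theorem exists_rep [Finite Γ] (hK : K ≤ Subgroup.center Γ) :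
    ∃ (n : ℕ) (ρ : Γ →* GL (Fin n) ℂ), 0 < n ∧
      ∀ k : K, ρ k = GeneralLinearGroup.scalar (Fin n) (χ k) := by
  have := nontrivial_V K χ
  let b := Module.finBasis ℂ (V K χ)
  let M := LinearMap.toMatrixAlgEquiv b
  let ρ₀ : Γ →* Matrix (Fin (Module.finrank ℂ (V K χ))) (Fin (Module.finrank ℂ (V K χ))) ℂ :=
    (M : _ →* _).comp (act K χ)
  refine ⟨_, ρ₀.toHomUnits, Module.finrank_pos, ?_⟩
  intro k
  apply Units.ext
  show M (act K χ k) = _
  rw [act_of_mem K χ hK k, map_smul, map_one]
  ext i j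
  simp [GeneralLinearGroup.scalar, Matrix.one_apply, Matrix.diagonal_apply]

end Cfsg.Agent.H491.ScalarRep
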