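import Mathlib
import Cfsg.Prelude.Def_KGroupFacts

/-!
# Stem extensions inside central extensions

Let `τ : D →* Q` be surjective with central kernel `Z`. If there is a homomorphism
`r : D →* Dᵃᵇ` that agrees with the projection on `Z` and takes values in the image of `Z`, then
the kernel `C` of `r` is a stem extension of `Q` whose kernel is `Z ⊓ [D, D]`. Such an `r` exists
if `Z` is divisible, and if `D` is finite with the orders of `Z` and `Qᵃᵇ` coprime.
-/

set_option autoImplicit false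

namespace Cfsg.Agent.H491.StemCore

open scoped commutatorElement

universe u v

variable {D : Type u} {Q : Type v} [Group D] [Group Q]

/-- If `D = C Z` with `Z` central, then the commutator subgroups of `D` and `C` agree. -/
theorem commutator_le_map (C Z : Subgroup D) (hZ : Z ≤ Subgroup.center D)
    (h : ∀ d : D, ∃ z ∈ Z, d * z ∈ C) : commutator D ≤ (commutator C).map C.subtype := by
  rw [commutator_def, Subgroup.commutator_le]
  intro x _ y _
  obtain ⟨z, hz, hxz⟩ := h x
  obtain ⟨w, hw, hyw⟩ := h y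
  refine ⟨⁅(⟨x * z, hxz⟩ : C), ⟨y * w, hyw⟩⁆,
    Subgroup.commutator_mem_commutator (Subgroup.mem_top _) (Subgroup.mem_top _), ?_⟩
  have hz' := Subgroup.mem_center_iff.1 (hZ hz)
  have hw' := Subgroup.mem_center_iff.1 (hZ hw)
  show ⁅x * z, y * w⁆ = ⁅x, y⁆
  rw [commutatorElement_def, commutatorElement_def]
  have e1 : x * z * (y * w) = (x * y) * (z * w) := by
    rw [mul_assoc x z, ← mul_assoc z y, ← hz' y]
    group
  have e2 : x * z * (y * w) * (x * z)⁻¹ * (y * w)⁻¹ =
      x * z * (y * w) * ((y * w) * (x * z))⁻¹ := by group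
  have e3 : (y * w) * (x * z) = (y * x) * (z * w) := by
    rw [mul_assoc y w, ← mul_assoc w x, ← hw' x, hw' z]
    simp only [mul_assoc]
  rw [e2, e1, e3]
  group

theorem core (τ : D →* Q) (hτ : Function.Surjective τ) (hZ : τ.ker ≤ Subgroup.center D)
    (r : D →* Abelianization D) (h1 : ∀ z ∈ τ.ker, r z = Abelianization.of z)
    (h2 : ∀ d, ∃ z ∈ τ.ker, r d = Abelianization.of z) :
    Cfsg.IsStemExtension (τ.comp r.ker.subtype) ∧
      ∀ d : D, (d ∈ r.ker ∧ τ d = 1) ↔ (τ d = 1 ∧ d ∈ commutator D) := by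
  have hmem : ∀ d : D, (d ∈ r.ker ∧ τ d = 1) ↔ (τ d = 1 ∧ d ∈ commutator D) := by
    intro d
    constructor
    · rintro ⟨hd, hd1⟩
      refine ⟨hd1, ?_⟩
      rw [← Abelianization.ker_of, MonoidHom.mem_ker, ← h1 d hd1]
      exact hd
    · rintro ⟨hd1, hd⟩
      refine ⟨?_, hd1⟩
      rw [MonoidHom.mem_ker, h1 d hd1]
      rw [← Abelianization.ker_of, MonoidHom.mem_ker] at hd
      exact hd
  have hsup : ∀ d : D, ∃ z ∈ τ.ker, d * z ∈ r.ker := by
    intro d
    obtain ⟨z, hz, hdz⟩ := h2 d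
    refine ⟨z⁻¹, inv_mem hz, ?_⟩
    rw [MonoidHom.mem_ker, map_mul, map_inv, hdz, h1 z hz, mul_inv_cancel]
  refine ⟨⟨?_, ?_, ?_⟩, hmem⟩
  · intro q
    obtain ⟨d, rfl⟩ := hτ q
    obtain ⟨z, hz, hdz⟩ := hsup d
    refine ⟨⟨d * z, hdz⟩, ?_⟩
    show τ (d * z) = τ d
    rw [map_mul, (MonoidHom.mem_ker).1 hz, mul_one]
  · intro c hc
    rw [Subgroup.mem_center_iff]
    intro g
    apply Subtype.ext
    have : (c : D) ∈ τ.ker := hc
    exact Subgroup.mem_center_iff.1 (hZ this) g
  · intro c hc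
    have hc1 : τ (c : D) = 1 := hc
    have hc2 := ((hmem c).1 ⟨c.2, hc1⟩).2
    obtain ⟨c', hc', hcc'⟩ := commutator_le_map r.ker τ.ker hZ hsup hc2
    have : c' = c := Subtype.ext hcc'
    rw [← this]
    exact hc'

/-- A divisible subgroup of an abelian group is a retract. -/
theorem exists_retraction {A : Type*} [CommGroup A] (N : Subgroup A)
    (hN : ∀ n : ℕ, n ≠ 0 → ∀ x ∈ N, ∃ y ∈ N, y ^ n = x) :
    ∃ r : A →* A, (∀ x ∈ N, r x = x) ∧ ∀ a, r a ∈ N := by
  have hsurj : ∀ {n : ℤ}, n ≠ 0 →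
      Function.Surjective (fun a => n • a : Additive N → Additive N) := by
    intro n hn x
    obtain ⟨m, rfl | rfl⟩ := Int.eq_nat_or_neg n
    · have hm : m ≠ 0 := fun h => hn (by rw [h]; rfl)
      obtain ⟨y, hy, hyx⟩ := hN m hm (x.toMul : N) (x.toMul : N).2
      refine ⟨Additive.ofMul ⟨y, hy⟩, ?_⟩
      apply Additive.toMul.injective
      apply Subtype.ext
      simpa using hyx
    · have hm : m ≠ 0 := fun h => hn (by rw [h]; rfl)
      obtain ⟨y, hy, hyx⟩ := hN m hm (x.toMul : N) (x.toMul : N).2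
      refine ⟨Additive.ofMul ⟨y⁻¹, inv_mem hy⟩, ?_⟩
      apply Additive.toMul.injective
      apply Subtype.ext
      simpa using hyx
  let _ : DivisibleBy (Additive N) ℤ := divisibleByOfSMulRightSurj (Additive N) ℤ hsurj
  obtain ⟨h, hh⟩ := (Module.Baer.of_divisible (Additive N)).extension_property_addMonoidHom
    (MonoidHom.toAdditive N.subtype) (fun a b hab => by
      apply Additive.toMul.injective
      exact Subtype.ext (congrArg Additive.toMul hab)) (AddMonoidHom.id _)
  let h' : A →* N := MonoidHom.toAdditive.symm h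
  refine ⟨N.subtype.comp h', ?_, fun a => (h' a).2⟩
  intro x hx
  have h1 := DFunLike.congr_fun hh (Additive.ofMul ⟨x, hx⟩)
  exact congrArg (fun y : Additive N => ((y.toMul : N) : A)) h1

/-- **Divisible kernels.** A central extension `τ : D →* Q` with divisible kernel contains a stem
extension of `Q` with kernel `ker τ ⊓ [D, D]`. -/
theorem exists_of_divisible (τ : D →* Q) (hτ : Function.Surjective τ)
    (hZ : τ.ker ≤ Subgroup.center D)
    (hdiv : ∀ n : ℕ, n ≠ 0 → ∀ x ∈ τ.ker, ∃ y ∈ τ.ker, y ^ n = x) :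
    ∃ C : Subgroup D, Cfsg.IsStemExtension (τ.comp C.subtype) ∧
      ∀ d : D, (d ∈ C ∧ τ d = 1) ↔ (τ d = 1 ∧ d ∈ commutator D) := by
  obtain ⟨r, hr, hr'⟩ := exists_retraction (τ.ker.map (Abelianization.of : D →* _)) (by
    rintro n hn _ ⟨x, hx, rfl⟩
    obtain ⟨y, hy, rfl⟩ := hdiv n hn x hx
    exact ⟨_, ⟨y, hy, rfl⟩, (map_pow _ _ _).symm⟩)
  refine ⟨_, core τ hτ hZ (r.comp Abelianization.of) ?_ ?_⟩
  · intro z hz
    exact hr _ ⟨z, hz, rfl⟩
  · intro d
    obtain ⟨z, hz, hzd⟩ := hr' (Abelianization.of d)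
    exact ⟨z, hz, hzd.symm⟩

/-- **Coprime orders.** A finite central extension `τ : D →* Q` with `|ker τ|` and `|Qᵃᵇ|` coprime
contains a stem extension of `Q` with kernel `ker τ ⊓ [D, D]`. -/
theorem exists_of_coprime [Finite D] (τ : D →* Q) (hτ : Function.Surjective τ)
    (hZ : τ.ker ≤ Subgroup.center D)
    (hcop : Nat.Coprime (Nat.card (Abelianization Q)) (Nat.card τ.ker)) :
    ∃ C : Subgroup D, Cfsg.IsStemExtension (τ.comp C.subtype) ∧
      ∀ d : D, (d ∈ C ∧ τ d = 1) ↔ (τ d = 1 ∧ d ∈ commutator D) := by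
  have : Finite Q := Finite.of_surjective τ hτ
  obtain ⟨e, he0, he1⟩ : ∃ e : ℕ, Nat.card (Abelianization Q) ∣ e ∧
      e ≡ 1 [MOD Nat.card τ.ker] := by
    obtain ⟨e, he⟩ := Nat.chineseRemainder hcop 0 1
    exact ⟨e, (Nat.modEq_zero_iff_dvd).1 he.1, he.2⟩
  refine ⟨_, core τ hτ hZ ((powMonoidHom e).comp Abelianization.of) ?_ ?_⟩
  · intro z hz
    have h1 : z ^ e = z := by
      have h2 : orderOf z ∣ Nat.card τ.ker := by
        have := orderOf_dvd_natCard (⟨z, hz⟩ : τ.ker)
        rwa [Subgroup.orderOf_mk] at this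
      have h3 : e ≡ 1 [MOD orderOf z] := he1.of_dvd h2
      have := (pow_eq_pow_iff_modEq (x := z)).2 h3
      rwa [pow_one] at this
    show (Abelianization.of z) ^ e = _
    rw [← map_pow, h1]
  · intro d
    have h1 : Abelianization.of (τ (d ^ e)) = 1 := by
      obtain ⟨k, rfl⟩ := he0
      rw [map_pow, map_pow, pow_mul, pow_card_eq_one', one_pow]
    have h2 : τ (d ^ e) ∈ commutator Q := by
      rw [← Abelianization.ker_of]
      exact h1
    have h3 : (commutator D).map τ = commutator Q := by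
      rw [commutator_def, commutator_def, Subgroup.map_commutator,
        Subgroup.map_top_of_surjective τ hτ]
    rw [← h3] at h2
    obtain ⟨c, hc, hcd⟩ := h2
    refine ⟨c⁻¹ * d ^ e, ?_, ?_⟩
    · rw [MonoidHom.mem_ker, map_mul, map_inv, hcd, inv_mul_cancel]
    · have h4 : Abelianization.of c = 1 := by
        have : c ∈ (Abelianization.of : D →* _).ker := by
          rw [Abelianization.ker_of]; exact hc
        exact this
      show (Abelianization.of d) ^ e = _
      rw [map_mul, map_inv, h4, inv_one, one_mul, map_pow]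

end Cfsg.Agent.H491.StemCore
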