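import Cfsg.Agent.H691.Defs
import Cfsg.Agent.KFacts.MM.Cent
import Cfsg.Agent.CpAutCo3.MTw
import Cfsg.Agent.H180.KM11
import Cfsg.Agent.H413.JOneLocal
import Cfsg.Agent.MTwelveType.SylowModel
import Cfsg.Agent.SporadicA.M24Trans
import Mathlib.GroupTheory.Perm.Centralizer

/-!
# `TP` for the Mathieu groups and `J₁` (tasks of S4854, S4855)
-/

set_option autoImplicit false

namespace Cfsg.Agent.H491.TPM

open scoped Pointwise
open Subgroup Cfsg Cfsg.Agent.H691 Cfsg.Agent.SporadicA.GolayBase Cfsg.Agent.SporadicA.GolayPerm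
open Cfsg.Agent.KFacts.MM.El Cfsg.Agent.KFacts.MM.Cent

universe u v

theorem card_cent_equiv {S : Type u} {K : Type v} [Group S] [Group K] (e : S ≃* K) (x : K) :
    Nat.card (centralizer ({e.symm x} : Set S)) = Nat.card (centralizer ({x} : Set K)) := by
  refine Nat.card_congr
    { toFun := fun g => ⟨e g, ?_⟩
      invFun := fun g => ⟨e.symm g, ?_⟩
      left_inv := fun g => Subtype.ext (e.symm_apply_apply _)
      right_inv := fun g => Subtype.ext (e.apply_symm_apply _) }
  · rw [mem_centralizer_singleton_iff]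
    have h := mem_centralizer_singleton_iff.1 g.2
    have h1 := congrArg e h
    rwa [map_mul, map_mul, e.apply_symm_apply] at h1
  · rw [mem_centralizer_singleton_iff]
    have h := mem_centralizer_singleton_iff.1 g.2
    rw [← map_mul, ← map_mul, h]

theorem tp_of_equiv {S : Type u} {K : Type v} [Group S] [Group K] (e : S ≃* K) {L : List (ℕ × ℕ)} {B : ℕ}
    (h : TP K L B) : TP S L B := by
  obtain ⟨l, l', x, x', h1, ⟨a, ha⟩, ⟨a', ha'⟩, h2⟩ := h
  refine ⟨l, l', e.symm x, e.symm x', h1, ⟨a, ?_⟩, ⟨a', ?_⟩, ?_⟩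
  · rw [← map_pow, ha, map_one]
  · rw [← map_pow, ha', map_one]
  · rw [card_cent_equiv, card_cent_equiv, Nat.card_congr e.toEquiv]
    exact h2

theorem tp_of {K : Type u} [Group K] {L : List (ℕ × ℕ)} {B l l' : ℕ} {x x' : K} (hL : (l, l') ∈ L)
    {a a' : ℕ} (hx : x ^ l ^ a = 1) (hx' : x' ^ l' ^ a' = 1) {c c' N : ℕ}
    (hc : Nat.card (centralizer ({x} : Set K)) ≤ c) (hc' : Nat.card (centralizer ({x'} : Set K)) ≤ c')
    (hN : Nat.card K = N) (h : (c + c') * B < N) : TP K L B :=
  ⟨l, l', x, x', hL, ⟨a, hx⟩, ⟨a', hx'⟩, by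
    rw [hN]
    exact lt_of_le_of_lt (Nat.mul_le_mul_right _ (Nat.add_le_add hc hc')) h⟩

/-- the centralizer in a permutation group -/
theorem card_cent_le_perm {Ω : Type u} [Finite Ω] {K : Subgroup (Equiv.Perm Ω)} (x : K) :
    Nat.card (centralizer ({x} : Set K)) ≤ Nat.card (centralizer ({(x : Equiv.Perm Ω)} : Set (Equiv.Perm Ω))) := by
  let f : centralizer ({x} : Set K) → centralizer ({(x : Equiv.Perm Ω)} : Set (Equiv.Perm Ω)) :=
    fun g => ⟨((g : K) : Equiv.Perm Ω), by
      rw [mem_centralizer_singleton_iff]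
      exact congrArg Subtype.val (mem_centralizer_singleton_iff.1 g.2)⟩
  refine Nat.card_le_card_of_injective f ?_
  intro g h hgh
  have h1 : ((g : K) : Equiv.Perm Ω) = ((h : K) : Equiv.Perm Ω) := congrArg (fun z => z.1) hgh
  exact Subtype.ext (Subtype.ext h1)

/-! ### elements of prime order in degree 24 -/

/-- the number of cycles of an element of prime order -/
theorem cent_prime {x : Equiv.Perm GolayPt} {r k : ℕ} (hr : r.Prime) (hx : orderOf x = r)
    (hk : (k - 1) * r < x.support.card) (hk' : 24 < (k + 1) * r) (hk0 : 0 < k) :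
    Nat.card (centralizer ({x} : Set (Equiv.Perm GolayPt))) =
      (24 - k * r).factorial * r ^ k * k.factorial := by
  obtain ⟨n, hn⟩ := Equiv.Perm.cycleType_prime_order (σ := x) (by rw [hx]; exact hr)
  rw [hx] at hn
  have hs : x.support.card = (n + 1) * r := by
    rw [← Equiv.Perm.sum_cycleType, hn, Multiset.sum_replicate, smul_eq_mul]
  have hle : x.support.card ≤ 24 := by
    have := Finset.card_le_univ x.support
    have h24 : Fintype.card GolayPt = 24 := by simp [GolayPt]
    rwa [h24] at this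
  have hr0 : 0 < r := hr.pos
  have hnk : n + 1 = k := by
    rw [hs] at hk hle
    have h1 : k - 1 < n + 1 := lt_of_mul_lt_mul_right hk (Nat.zero_le r)
    have h2 : n + 1 < k + 1 := lt_of_mul_lt_mul_right (lt_of_le_of_lt hle hk') (Nat.zero_le r)
    omega
  rw [Equiv.Perm.nat_card_centralizer, hn, hnk]
  have h24 : Fintype.card GolayPt = 24 := by simp [GolayPt]
  have hne : k ≠ 0 := hk0.ne'
  rw [h24, Multiset.sum_replicate, smul_eq_mul, Multiset.prod_replicate, Multiset.toFinset_replicate, if_neg hne,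
    Finset.prod_singleton, Multiset.count_replicate_self]

/-- order test -/
def okr (r P : ℕ) : Bool :=
  okl [P] && (weq (List.replicate r P) [] && !weq [P] [])

theorem pr_replicate (r Q : ℕ) : pr (List.replicate r Q) = pm Q ^ r := by
  induction r with
  | zero => rfl
  | succ r ih => rw [List.replicate_succ, pr_cons, ih, pow_succ']

theorem okl_replicate {Q : ℕ} (h : isPerm Q = true) (r : ℕ) : okl (List.replicate r Q) = true := by
  unfold okl
  rw [List.all_eq_true]
  intro x hx
  rw [List.mem_replicate] at hx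
  rw [hx.2]
  exact h

theorem pow_of_weq {P r : ℕ} (hP : isPerm P = true) (h : weq (List.replicate r P) [] = true) : pm P ^ r = 1 := by
  have okn : okl [] = true := rfl
  have := pr_of_weq (okl_replicate hP r) okn h
  rwa [pr_replicate, pr_nil] at this

theorem order_of_okr {r P : ℕ} (hr : r.Prime) (h : okr r P = true) : orderOf (pm P) = r := by
  unfold okr at h
  simp only [Bool.and_eq_true, Bool.not_eq_true'] at h
  obtain ⟨h0, h3, h4⟩ := h
  have hP0 := (okl_cons h0).1
  have okn : okl [] = true := rfl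
  have e3 := pow_of_weq hP0 h3
  have e4 : pm P ≠ 1 := by
    have := pr_ne h0 okn h4
    rwa [pr_one, pr_nil] at this
  have : Fact r.Prime := ⟨hr⟩
  exact orderOf_eq_prime e3 e4

def x11 : ℕ := 983435072843990828779021698901151808
def y23 : ℕ := 956302485175575353788796878166559809
def w8 : ℕ := 968547660840779817417063322228198560

theorem ord_x11 : orderOf (pm x11) = 11 := order_of_okr (by norm_num) (by decide +kernel)

theorem ord_y23 : orderOf (pm y23) = 23 := order_of_okr (by norm_num) (by decide +kernel)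

theorem supp_x11 : 11 < (pm x11).support.card := by
  classical
  have h1 : (Finset.univ.filter fun p : GolayPt => p ≠ none ∧ p ≠ some 0) ⊆ (pm x11).support := by
    intro p hp
    rw [Finset.mem_filter] at hp
    rw [Equiv.Perm.mem_support]
    intro h
    have hP : isPerm x11 = true := by decide +kernel
    have h2 : papp x11 (idx p) = idx p := by
      rw [← val_pm hP (idx_lt p)]
      unfold val
      rw [pt_idx, h]
    have h3 : ∀ i < 24, papp x11 i = i → i = 0 ∨ i = 23 := by decide +kernel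
    rcases h3 _ (idx_lt p) h2 with h4 | h4
    · apply hp.2.2
      rw [← pt_idx p, h4]
      rfl
    · apply hp.2.1
      rw [← pt_idx p, h4]
      rfl
  have h2 : (Finset.univ.filter fun p : GolayPt => p ≠ none ∧ p ≠ some 0).card = 22 := by decide +kernel
  have h3 := Finset.card_le_card h1
  omega

theorem cent_x11 : Nat.card (centralizer ({pm x11} : Set (Equiv.Perm GolayPt))) = 484 := by
  rw [cent_prime (k := 2) (by norm_num) ord_x11 (by simpa using supp_x11) (by norm_num) (by norm_num)]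
  rfl

theorem cent_y23 : Nat.card (centralizer ({pm y23} : Set (Equiv.Perm GolayPt))) = 23 := by
  rw [cent_prime (k := 1) (by norm_num) ord_y23 ?_ (by norm_num) (by norm_num)]
  · rfl
  · rw [Nat.sub_self, Nat.zero_mul, Finset.card_pos, Finset.nonempty_iff_ne_empty, Ne,
      Equiv.Perm.support_eq_empty_iff]
    intro h
    have := ord_y23
    rw [h, orderOf_one] at this
    omega

theorem x11_mem_M22 : pm x11 ∈ Spor.M22 := (mem_of_ok22 (by decide +kernel)).2

theorem w8_mem_M22 : pm w8 ∈ Spor.M22 := (mem_of_ok22 (by decide +kernel)).2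

theorem y23_mem_M23 : pm y23 ∈ Spor.M23 := by
  have h1 : isPerm y23 = true := by decide +kernel
  refine (SporadicA.MathieuRecog.mem_M23_iff _).2 ⟨pm_mem_M24 h1 (by decide +kernel), ?_⟩
  have h5 := val_pm h1 (i := 23) (by norm_num)
  rw [show papp y23 23 = 23 by decide +kernel] at h5
  have h6 := pt_val (pm y23) 23
  rw [h5] at h6
  exact h6.symm

/-! ### The element of order 8 in `M22` -/

def it (P n i : ℕ) : ℕ := (papp P)^[n] i

theorem it_lt {P : ℕ} (hP : isPerm P = true) (n : ℕ) {i : ℕ} (hi : i < 24) : it P n i < 24 := by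
  unfold it
  induction n with
  | zero => exact hi
  | succ n ih => rw [Function.iterate_succ_apply']; exact papp_lt hP ih

theorem val_it {P : ℕ} (hP : isPerm P = true) {g : Equiv.Perm GolayPt} (hg : g * pm P = pm P * g) (n : ℕ) {i : ℕ}
    (hi : i < 24) : val g (it P n i) = it P n (val g i) := by
  induction n with
  | zero => rfl
  | succ n ih =>
    have h1 : it P (n + 1) i = papp P (it P n i) := Function.iterate_succ_apply' _ _ _
    have h2 : it P (n + 1) (val g i) = papp P (it P n (val g i)) := Function.iterate_succ_apply' _ _ _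
    have h3 := it_lt hP n hi
    rw [h1, h2, ← ih, ← val_pm hP h3, ← val_mul, hg, val_mul, val_pm hP (val_lt _ _)]

theorem val_mem {P : ℕ} (hP : isPerm P = true) {g : Equiv.Perm GolayPt} (hg : g * pm P = pm P * g) {b : ℕ}
    (hb : b < 24) (ns : List ℕ) {L : List ℕ}
    (h : ∀ j < 24, (∀ n ∈ ns, (it P n j = j ↔ it P n b = b)) → j ∈ L) : val g b ∈ L := by
  refine h _ (val_lt _ _) fun n _ => ?_
  rw [← val_it hP hg n hb]
  constructor
  · intro h1
    exact val_inj (it_lt hP n hb) hb h1
  · intro h1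
    rw [h1]

theorem cent_w8 : Nat.card (centralizer ({(⟨pm w8, w8_mem_M22⟩ : Spor.M22)} : Set Spor.M22)) ≤ 2048 := by
  classical
  have hP : isPerm w8 = true := by decide +kernel
  let L8 : List ℕ := [1, 5, 8, 19, 12, 6, 18, 9, 4, 20, 17, 22, 10, 14, 16, 21]
  let L4 : List ℕ := [2, 3, 11, 15]
  let L2 : List ℕ := [7, 13]
  let T : Finset (ℕ × ℕ × ℕ × ℕ) := L8.toFinset ×ˢ (L8.toFinset ×ˢ (L4.toFinset ×ˢ L2.toFinset))
  have hT : T.card = 2048 := by decide +kernel
  let f : centralizer ({(⟨pm w8, w8_mem_M22⟩ : Spor.M22)} : Set Spor.M22) → T := fun g =>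
    ⟨(val ((g : Spor.M22) : Equiv.Perm GolayPt) 1, val ((g : Spor.M22) : Equiv.Perm GolayPt) 4,
      val ((g : Spor.M22) : Equiv.Perm GolayPt) 2, val ((g : Spor.M22) : Equiv.Perm GolayPt) 7), by
      have hg : ((g : Spor.M22) : Equiv.Perm GolayPt) * pm w8 = pm w8 * ((g : Spor.M22) : Equiv.Perm GolayPt) :=
        congrArg Subtype.val (mem_centralizer_singleton_iff.1 g.2)
      rw [Finset.mem_product, Finset.mem_product, Finset.mem_product, List.mem_toFinset, List.mem_toFinset,
        List.mem_toFinset, List.mem_toFinset]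
      refine ⟨?_, ?_, ?_, ?_⟩
      · exact val_mem hP hg (by norm_num) [1, 2, 4] (by decide +kernel)
      · exact val_mem hP hg (by norm_num) [1, 2, 4] (by decide +kernel)
      · exact val_mem hP hg (by norm_num) [1, 2, 4] (by decide +kernel)
      · exact val_mem hP hg (by norm_num) [1, 2, 4] (by decide +kernel)⟩
  have hf : Function.Injective f := by
    intro g h hgh
    have hg : ((g : Spor.M22) : Equiv.Perm GolayPt) * pm w8 = pm w8 * ((g : Spor.M22) : Equiv.Perm GolayPt) :=
      congrArg Subtype.val (mem_centralizer_singleton_iff.1 g.2)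
    have hh : ((h : Spor.M22) : Equiv.Perm GolayPt) * pm w8 = pm w8 * ((h : Spor.M22) : Equiv.Perm GolayPt) :=
      congrArg Subtype.val (mem_centralizer_singleton_iff.1 h.2)
    have h0 := congrArg Subtype.val hgh
    have h1 : val ((g : Spor.M22) : Equiv.Perm GolayPt) 1 = val ((h : Spor.M22) : Equiv.Perm GolayPt) 1 :=
      congrArg (fun z => z.1) h0
    have h2 : val ((g : Spor.M22) : Equiv.Perm GolayPt) 4 = val ((h : Spor.M22) : Equiv.Perm GolayPt) 4 :=
      congrArg (fun z => z.2.1) h0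
    have h3 : val ((g : Spor.M22) : Equiv.Perm GolayPt) 2 = val ((h : Spor.M22) : Equiv.Perm GolayPt) 2 :=
      congrArg (fun z => z.2.2.1) h0
    have h4 : val ((g : Spor.M22) : Equiv.Perm GolayPt) 7 = val ((h : Spor.M22) : Equiv.Perm GolayPt) 7 :=
      congrArg (fun z => z.2.2.2) h0
    have hfix : ∀ k : Spor.M22, val (k : Equiv.Perm GolayPt) 0 = 0 ∧ val (k : Equiv.Perm GolayPt) 23 = 23 := by
      intro k
      obtain ⟨-, h5, h6⟩ := (SporadicA.MathieuRecog.mem_M22_iff _).1 k.2
      unfold val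
      constructor
      · rw [show pt 0 = some 0 from rfl, h6]
        rfl
      · rw [show pt 23 = none from rfl, h5]
        rfl
    apply Subtype.ext
    apply Subtype.ext
    apply ext_val
    have key : ∀ i < 24, ∃ b ∈ [1, 4, 2, 7, 0, 23], ∃ n < 8, it w8 n b = i := by decide +kernel
    intro i hi
    obtain ⟨b, hb, n, -, rfl⟩ := key i hi
    have hb24 : b < 24 := by
      simp only [List.mem_cons, List.not_mem_nil, or_false] at hb
      omega
    have hb' : val ((g : Spor.M22) : Equiv.Perm GolayPt) b = val ((h : Spor.M22) : Equiv.Perm GolayPt) b := by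
      simp only [List.mem_cons, List.not_mem_nil, or_false] at hb
      rcases hb with rfl | rfl | rfl | rfl | rfl | rfl
      · exact h1
      · exact h2
      · exact h3
      · exact h4
      · rw [(hfix _).1, (hfix _).1]
      · rw [(hfix _).2, (hfix _).2]
    rw [val_it hP hg n hb24, val_it hP hh n hb24, hb']
  have h1 := Nat.card_le_card_of_injective f hf
  rw [Nat.card_eq_fintype_card (α := T), Fintype.card_coe, hT] at h1
  exact h1

theorem pow_coe {K : Subgroup (Equiv.Perm GolayPt)} {g : Equiv.Perm GolayPt} (hg : g ∈ K) {n : ℕ} (h : g ^ n = 1) :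
    (⟨g, hg⟩ : K) ^ n = 1 := Subtype.ext h

theorem cent_x11' {K : Subgroup (Equiv.Perm GolayPt)} (h : pm x11 ∈ K) :
    Nat.card (centralizer ({(⟨pm x11, h⟩ : K)} : Set K)) ≤ 484 :=
  (card_cent_le_perm _).trans cent_x11.le

theorem cent_y23' {K : Subgroup (Equiv.Perm GolayPt)} (h : pm y23 ∈ K) :
    Nat.card (centralizer ({(⟨pm y23, h⟩ : K)} : Set K)) ≤ 23 :=
  (card_cent_le_perm _).trans cent_y23.le

theorem x11_pow : pm x11 ^ 11 ^ 1 = 1 := by
  rw [pow_one]
  exact pow_of_weq (by decide +kernel) (by decide +kernel)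

theorem y23_pow : pm y23 ^ 23 ^ 1 = 1 := by
  rw [pow_one]
  exact pow_of_weq (by decide +kernel) (by decide +kernel)

theorem w8_pow : pm w8 ^ 2 ^ 3 = 1 := pow_of_weq (by decide +kernel) (by decide +kernel)

theorem m22 {S : Type*} [Group S] (h : Spor.IsoM22 S) : Cfsg.Agent.H691.TP S
    [(2, 7), (2, 11), (3, 5), (3, 7), (3, 11), (5, 7), (5, 11), (7, 11)] (12 ^ 2) := by
  obtain ⟨e⟩ := h
  refine tp_of_equiv e ?_
  exact tp_of (l := 2) (l' := 11) (by decide) (pow_coe w8_mem_M22 w8_pow) (pow_coe x11_mem_M22 x11_pow)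
    cent_w8 (cent_x11' _) SporadicA.MathieuRecog.card_M22 (by norm_num)

theorem m23 {S : Type*} [Group S] (h : Spor.IsoM23 S) : Cfsg.Agent.H691.TP S
    [(2, 7), (2, 23), (3, 5), (3, 7), (3, 11), (3, 23), (5, 7), (5, 11), (5, 23), (7, 11), (7, 23), (11, 23)]
    (24 ^ 2) := by
  obtain ⟨e⟩ := h
  refine tp_of_equiv e ?_
  exact tp_of (l := 11) (l' := 23) (by decide) (pow_coe (SporadicA.MathieuRecog.M22_le x11_mem_M22) x11_pow)
    (pow_coe y23_mem_M23 y23_pow)
    (cent_x11' _) (cent_y23' _) SporadicA.MathieuRecog.card_M23 (by norm_num)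

theorem m24 {S : Type*} [Group S] (h : Spor.IsoM24 S) : Cfsg.Agent.H691.TP S
    [(2, 7), (2, 23), (3, 5), (3, 7), (3, 11), (3, 23), (5, 7), (5, 11), (5, 23), (7, 11), (7, 23), (11, 23)]
    (24 ^ 2) := by
  obtain ⟨e⟩ := h
  refine tp_of_equiv e ?_
  exact tp_of (l := 11) (l' := 23) (by decide)
    (pow_coe (M22_le24 x11_mem_M22) x11_pow) (pow_coe (M23_le24 y23_mem_M23) y23_pow)
    (cent_x11' _) (cent_y23' _) SporadicA.M24Trans.card_M24 (by norm_num)

def dod : List ℕ := [0, 1, 2, 3, 4, 6, 8, 9, 12, 13, 16, 18]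

theorem mem_dod : ∀ p : GolayPt, p ∈ Spor.squareDodecad ↔ idx p ∈ dod := by decide +kernel

theorem x11_mem_M12 : pm x11 ∈ Spor.M12 := by
  refine ⟨M22_le24 x11_mem_M22, ?_⟩
  have hP : isPerm x11 = true := by decide +kernel
  have key : ∀ i < 24, (papp x11 i ∈ dod ↔ i ∈ dod) := by decide +kernel
  have h1 : ∀ p, pm x11 p ∈ Spor.squareDodecad ↔ p ∈ Spor.squareDodecad := by
    intro p
    have h2 : idx (pm x11 p) = papp x11 (idx p) := by
      rw [← val_pm hP (idx_lt p)]
      unfold val
      rw [pt_idx]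
    rw [mem_dod, mem_dod, h2]
    exact key _ (idx_lt p)
  change pm x11 • Spor.squareDodecad = Spor.squareDodecad
  ext q
  obtain ⟨p, rfl⟩ := (pm x11).surjective q
  rw [mem_smul_iff, h1]

theorem m12 {S : Type*} [Group S] (h : Spor.IsoM12 S) : Cfsg.Agent.H691.TP S
    [(2, 11), (3, 5), (3, 11), (5, 11)] (12 ^ 2) := by
  obtain ⟨e⟩ := h
  refine tp_of_equiv e ?_
  have hcard : Nat.card Spor.M12 = 95040 := Cfsg.Agent.MTwelveType.SylowModel.card_M12
  have hf : Finite Spor.M12 := inferInstance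
  have h3 : Fact (Nat.Prime 3) := ⟨Nat.prime_three⟩
  obtain ⟨t, ht⟩ := exists_prime_orderOf_dvd_card' (G := Spor.M12) 3 (by rw [hcard]; norm_num)
  have ht3 : t ^ 3 = 1 := by rw [← ht]; exact pow_orderOf_eq_one t
  have ht1 : t ≠ 1 := by rintro rfl; simp at ht
  exact tp_of (l := 3) (l' := 11) (by decide) (a := 1) (by rw [pow_one]; exact ht3)
    (pow_coe x11_mem_M12 x11_pow)
    (CpAutCo3.MTw.card_cent_le ht1 ht3) (cent_x11' _) hcard (by norm_num)

theorem m11 {S : Type*} [Group S] (h : Spor.IsoM11 S) : Cfsg.Agent.H691.TP S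
    [(2, 11), (3, 5), (3, 11), (5, 11)] (12 ^ 2) := by
  have hG := Cfsg.Agent.Cit.Eleven.isM11 h
  have := Cfsg.Agent.Cit.Eleven.finite h
  have h11 : Fact (Nat.Prime 11) := ⟨by norm_num⟩
  obtain ⟨y, hy⟩ := Cfsg.Agent.H180.KM11.exists_eight h
  obtain ⟨x, hx⟩ := exists_prime_orderOf_dvd_card' (G := S) 11 (by rw [hG.2]; norm_num)
  exact tp_of (l := 2) (l' := 11) (by decide) (a := 3) (a' := 1)
    (by rw [show 2 ^ 3 = 8 by norm_num, ← hy]; exact pow_orderOf_eq_one y)
    (by rw [pow_one, ← hx]; exact pow_orderOf_eq_one x)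
    (Cfsg.Agent.H180.KM11.card_eight h hy) (SporadicA.M11Sylow.data_eleven hG hx).1.le hG.2 (by norm_num)

theorem j1 {S : Type*} [Group S] (h : Spor.IsoJ1 S) : Cfsg.Agent.H691.TP S
    [(2, 7), (2, 11), (2, 19), (3, 5), (3, 7), (3, 11), (3, 19), (5, 7), (5, 11), (5, 19), (7, 11), (7, 19), (11, 19)]
    (12 ^ 2) := by
  obtain ⟨e⟩ := h
  refine tp_of_equiv e ?_
  have hcard : Nat.card Spor.J1 = 175560 := Cfsg.Agent.SporadicB.J1.Main.isJ1.2
  have hf : Finite Spor.J1 := Nat.finite_of_card_ne_zero (by rw [hcard]; norm_num)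
  have h3 : Fact (Nat.Prime 3) := ⟨Nat.prime_three⟩
  have h5 : Fact (Nat.Prime 5) := ⟨by norm_num⟩
  obtain ⟨t, ht⟩ := exists_prime_orderOf_dvd_card' (G := Spor.J1) 3 (by rw [hcard]; norm_num)
  obtain ⟨x, hx⟩ := exists_prime_orderOf_dvd_card' (G := Spor.J1) 5 (by rw [hcard]; norm_num)
  have hl := Cfsg.Agent.H413.JOneLocal.isLocal
  exact tp_of (l := 3) (l' := 5) (by decide) (a := 1) (a' := 1)
    (by rw [pow_one, ← ht]; exact pow_orderOf_eq_one t)
    (by rw [pow_one, ← hx]; exact pow_orderOf_eq_one x)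
    (hl.cent3 t ht).le (hl.cent5 x hx).le hcard (by norm_num)

end Cfsg.Agent.H491.TPM
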